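import Groth.Agent.H15Site.FlatAdjD
import Mathlib.Algebra.Homology.DerivedCategory.RightDerivedFunctorPlus
import Mathlib.CategoryTheory.Adjunction.FullyFaithful

/-!
# Derived adjunction on bounded below derived categories

If `G ⊣ F` with `G` exact, then `G.rightDerivedFunctorPlus ⊣ F.rightDerivedFunctorPlus`.
-/

set_option autoImplicit false
set_option linter.style.haveILetI false

open CategoryTheory CategoryTheory.Limits CategoryTheory.Functor

namespace Groth.Agent.H25HomO

universe w w' v u u'

variable {A : Type u} [Category.{v} A] [Abelian A] [HasDerivedCategory.{w} A] [EnoughInjectives A]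
  {B : Type u'} [Category.{v} B] [Abelian B] [HasDerivedCategory.{w'} B] [EnoughInjectives B]

omit [HasDerivedCategory.{w} A] in
theorem exists_local (M : HomotopyCategory.Plus A) :
    ∃ (I : HomotopyCategory.Plus A) (s : M ⟶ I), HomotopyCategory.Plus.quasiIso A s ∧
      CochainComplex.IsKInjective I.1.as := by
  obtain ⟨K, rfl⟩ := HomotopyCategory.Plus.quotient_obj_surjective M
  obtain ⟨n, hn⟩ := K.property
  haveI : K.obj.IsStrictlyGE n := hn
  obtain ⟨L, -, i, hi⟩ := CochainComplex.Plus.exists_quasiIso_injective K n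
  refine ⟨(HomotopyCategory.Plus.quotient A).obj ((InjectiveObject.ι A).mapCochainComplexPlus.obj L),
    (HomotopyCategory.Plus.quotient A).map i, ?_,
    inferInstanceAs (CochainComplex.IsKInjective
      (((InjectiveObject.ι A).mapHomologicalComplex (.up ℤ)).obj L.obj))⟩
  exact (HomotopyCategory.quotient_map_mem_quasiIso_iff i.hom).2 hi

variable {G : A ⥤ B} [G.Additive] [PreservesFiniteLimits G] [PreservesFiniteColimits G]
  {F : B ⥤ A} [F.Additive]

variable (G) in
omit [EnoughInjectives A] [EnoughInjectives B] in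
theorem isIso_map_of_quasiIso {M N : HomotopyCategory.Plus A} (f : M ⟶ N)
    (hf : HomotopyCategory.Plus.quasiIso A f) :
    IsIso ((G.mapHomotopyCategoryPlus ⋙ DerivedCategory.Plus.Qh).map f) := by
  haveI : IsIso (DerivedCategory.Qh.map f.hom) :=
    Localization.inverts DerivedCategory.Qh (HomotopyCategory.quasiIso A (ComplexShape.up ℤ)) _ hf
  haveI : IsIso ((DerivedCategory.Qh ⋙ G.mapDerivedCategory).map f.hom) :=
    inferInstanceAs (IsIso (G.mapDerivedCategory.map _))
  haveI : IsIso ((G.mapHomotopyCategory (ComplexShape.up ℤ) ⋙ DerivedCategory.Qh).map f.hom) :=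
    (NatIso.isIso_map_iff G.mapDerivedCategoryFactorsh f.hom).1 ‹_›
  haveI : IsIso (DerivedCategory.Plus.ι.map ((G.mapHomotopyCategoryPlus ⋙ DerivedCategory.Plus.Qh).map f)) :=
    ‹IsIso ((G.mapHomotopyCategory (ComplexShape.up ℤ) ⋙ DerivedCategory.Qh).map f.hom)›
  exact isIso_of_reflects_iso _ DerivedCategory.Plus.ι

/-- The adjunction on bounded below homotopy categories. -/
noncomputable def homotopyPlusAdj (adj : G ⊣ F) :
    G.mapHomotopyCategoryPlus ⊣ F.mapHomotopyCategoryPlus :=
  (Groth.Agent.H15Site.FlatAdjD.homotopyAdj adj).restrictFullyFaithful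
    (HomotopyCategory.plus A).fullyFaithfulι (HomotopyCategory.plus B).fullyFaithfulι
    (L := G.mapHomotopyCategoryPlus) (R := F.mapHomotopyCategoryPlus) (Iso.refl _) (Iso.refl _)

/-- The derived adjunction on `D^+`. -/
theorem nonempty_derivedPlus_adjunction (adj : G ⊣ F) :
    Nonempty (G.rightDerivedFunctorPlus ⊣ F.rightDerivedFunctorPlus) := by
  let W₁ := HomotopyCategory.Plus.quasiIso A
  let W₂ := HomotopyCategory.Plus.quasiIso B
  let G' := G.rightDerivedFunctorPlus
  let u := G.rightDerivedFunctorPlusUnit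
  haveI hu : IsIso u := by
    refine @NatIso.isIso_of_isIso_app _ _ _ _ _ _ _ fun M => ?_
    obtain ⟨I, s, hs, hI⟩ := exists_local M
    haveI := isIso_map_of_quasiIso G s hs
    haveI : IsIso (DerivedCategory.Plus.Qh.map s) := Localization.inverts DerivedCategory.Plus.Qh W₁ s hs
    haveI : IsIso (u.app I) :=
      Groth.Agent.H16Derived.RDerived.isIso_unit_app_of_bijective DerivedCategory.Plus.Qh W₁ _ _ u _
        fun K => DerivedCategory.Plus.Qh_map_bijective_of_isKInjective K I hI
    have h := u.naturality s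
    haveI : IsIso (u.app M ≫ (DerivedCategory.Plus.Qh ⋙ G').map s) := by
      rw [← h]; infer_instance
    haveI : IsIso ((DerivedCategory.Plus.Qh ⋙ G').map s) := by
      dsimp only [Functor.comp_map]; infer_instance
    exact IsIso.of_isIso_comp_right (u.app M) ((DerivedCategory.Plus.Qh ⋙ G').map s)
  let F' := F.rightDerivedFunctorPlus
  let β := F.rightDerivedFunctorPlusUnit
  let e : DerivedCategory.Plus.Qh ⋙ G' ≅ G.mapHomotopyCategoryPlus ⋙ DerivedCategory.Plus.Qh :=
    (asIso u).symm
  haveI : G'.IsLeftDerivedFunctor e.hom W₁ :=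
    Functor.isLeftDerivedFunctor_of_inverts W₁ G' e
  haveI : (G' ⋙ F').IsLeftDerivedFunctor
      ((Functor.associator _ _ _).inv ≫ whiskerRight e.hom F') W₁ :=
    Functor.isLeftDerivedFunctor_of_inverts W₁ (G' ⋙ F')
      ((Functor.associator _ _ _).symm ≪≫ Functor.isoWhiskerRight e F')
  haveI : (F.mapHomotopyCategoryPlus ⋙ DerivedCategory.Plus.Qh).HasPointwiseRightDerivedFunctor W₂ :=
    Groth.Agent.H16Derived.RDerived.hasPointwiseRightDerivedFunctor_of_resolutions DerivedCategory.Plus.Qh _ _
      fun M => by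
        obtain ⟨I, s, hs, hI⟩ := exists_local M
        exact ⟨_, s, hs, fun K => DerivedCategory.Plus.Qh_map_bijective_of_isKInjective K I hI⟩
  haveI : (F' ⋙ G').IsRightDerivedFunctor
      (whiskerRight β G' ≫ (Functor.associator _ _ _).hom) W₂ := by
    refine Groth.Agent.H16Derived.RDerived.isRightDerivedFunctor_of_isIso_local _ _ _ _ _ fun M => ?_
    obtain ⟨I, s, hs, hI⟩ := exists_local M
    refine ⟨_, s, hs, fun K => DerivedCategory.Plus.Qh_map_bijective_of_isKInjective K I hI, ?_⟩
    haveI : IsIso (β.app I) :=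
      Groth.Agent.H16Derived.RDerived.isIso_unit_app_of_bijective DerivedCategory.Plus.Qh W₂ _ _ β _
        fun K => DerivedCategory.Plus.Qh_map_bijective_of_isKInjective K I hI
    simp only [NatTrans.comp_app, associator_hom_app, whiskerRight_app]
    infer_instance
  exact ⟨(homotopyPlusAdj adj).derived W₁ W₂ e.hom β⟩

end Groth.Agent.H25HomO
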