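import Groth.Agent.H16Derived.ProjFormula.ClosedImm
import Groth.Agent.H17.KerStalk
import Groth.Agent.H11Tilde.ModLoc
import Groth.Agent.H10Coh.FinType2
import Groth.Prelude.Def_Dual3
import Mathlib

/-!
# The submodule killed by the ideal of a closed immersion, and the right adjoint of `i_*`

* `killedSub i F`: the subsheaf of sections of `F` killed by the ideal of `i`.
* `isIso_unit_killedSub`: it is a direct image from the closed subscheme.
* `range_counit`: sections of `i_* i^! F` are the killed sections.
-/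

set_option autoImplicit false
set_option linter.style.haveILetI false

universe u

open CategoryTheory CategoryTheory.Limits AlgebraicGeometry TopologicalSpace Opposite

namespace Groth.Agent.H25HomO

variable {Z X : Scheme.{u}} (i : Z ⟶ X) (F : X.Modules)

/-- Being killed by the ideal of `i` on every affine open. -/
def IsKilled {V : X.Opens} (v : Γ(F, V)) : Prop :=
  ∀ (W : X.affineOpens) (h : W.1 ≤ V), ∀ a ∈ i.ker.ideal W, a • F.presheaf.map (homOfLE h).op v = 0

theorem map_map_eq (M : X.Modules) {U V W : X.Opens} (h₁ : V ≤ U) (h₂ : W ≤ V) (s : Γ(M, U)) :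
    M.presheaf.map (homOfLE h₂).op (M.presheaf.map (homOfLE h₁).op s) =
      M.presheaf.map (homOfLE (h₂.trans h₁)).op s := by
  rw [← ConcreteCategory.comp_apply, ← Functor.map_comp]
  rfl

variable {i F}

theorem IsKilled.map {U V : X.Opens} {v : Γ(F, U)} (hv : IsKilled i F v) (h : V ≤ U) :
    IsKilled i F (F.presheaf.map (homOfLE h).op v) := fun W hW a ha => by
  rw [map_map_eq]
  exact hv W (hW.trans h) a ha

theorem isKilled_of_locally {V : X.Opens} (v : Γ(F, V))
    (h : ∀ x ∈ V, ∃ (V' : X.Opens) (h' : V' ≤ V), x ∈ V' ∧ IsKilled i F (F.presheaf.map (homOfLE h').op v)) :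
    IsKilled i F v := fun W hW a ha => by
  refine Groth.Agent.H11Tilde.eq_of_locally _ _ fun x hx => ?_
  obtain ⟨V', h', hxV', hk⟩ := h x (hW hx)
  obtain ⟨_, ⟨W', hW' : IsAffineOpen W', rfl⟩, hxW', hle⟩ :=
    X.isBasis_affineOpens.exists_subset_of_mem_open (show x ∈ W.1 ⊓ V' from ⟨hx, hxV'⟩) (W.1 ⊓ V').isOpen
  have h1 : W' ≤ W.1 := fun z hz => (hle hz).1
  have h2 : W' ≤ V' := fun z hz => (hle hz).2
  refine ⟨W', h1, hxW', ?_⟩
  have := hk ⟨W', hW'⟩ h2 (X.presheaf.map (homOfLE h1).op a)
    (i.ker.ideal_le_comap_ideal (U := ⟨W', hW'⟩) (V := W) h1 ha)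
  rw [map_map_eq] at this
  rw [Scheme.Modules.map_smul, map_map_eq, map_zero]
  exact this

variable (i F)

/-- The submodule of killed sections. -/
noncomputable def killedPre : PresheafOfModules.Submodule F.val where
  obj V :=
    { carrier := {v | IsKilled i F (V := V.unop) v}
      add_mem' := fun {v w} hv hw W hW a ha => by
        refine (congrArg (a • ·) (map_add _ v w)).trans ?_
        exact (smul_add _ _ _).trans ((congrArg₂ (· + ·) (hv W hW a ha) (hw W hW a ha)).trans (add_zero _))
      zero_mem' := fun W hW a _ => (congrArg (a • ·) (map_zero _)).trans (smul_zero _)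
      smul_mem' := fun r v hv W hW a ha => by
        refine (congrArg (a • ·) (F.map_smul (homOfLE hW) r v)).trans ?_
        exact (smul_comm _ _ _).trans ((congrArg (_ • ·) (hv W hW a ha)).trans (smul_zero _)) }
  map {U V} f v hv := IsKilled.map hv (leOfHom f.unop)

theorem isSheaf_killedPre : Presheaf.IsSheaf (Opens.grothendieckTopology X) (killedPre i F).toPresheafOfModules.presheaf := by
  refine (TopCat.Presheaf.isSheaf_iff_isSheafUniqueGluing _).2 fun ι U sf hsf => ?_
  obtain ⟨s, hs, huniq⟩ := (TopCat.Presheaf.isSheaf_iff_isSheafUniqueGluing F.presheaf).1 F.isSheaf U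
    (fun j => (sf j).1) (fun j k => congrArg Subtype.val (hsf j k))
  have hk : IsKilled i F s := isKilled_of_locally s fun x hx => by
    obtain ⟨j, hj⟩ := Opens.mem_iSup.1 hx
    exact ⟨U j, le_iSup U j, hj, (hs j).symm ▸ (sf j).2⟩
  exact ⟨⟨s, hk⟩, fun j => Subtype.ext (hs j), fun t ht => Subtype.ext (huniq t.1 fun j => congrArg Subtype.val (ht j))⟩

/-- The subsheaf of killed sections. -/
noncomputable def killedSub : X.Modules := ⟨(killedPre i F).toPresheafOfModules, isSheaf_killedPre i F⟩

/-- The inclusion of killed sections. -/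
noncomputable def killedι : killedSub i F ⟶ F := ⟨(killedPre i F).ι⟩

theorem killedι_injective (V : X.Opens) : Function.Injective ((killedι i F).app V) := fun _ _ h => Subtype.ext h

theorem killed_killedSub [IsClosedImmersion i] : H16Derived.ProjFormula.Killed i (killedSub i F) := by
  refine ⟨fun z r hr m => ?_, fun y hy => subsingleton_of_forall_eq 0 fun m => ?_⟩
  · obtain ⟨V, hV, v, rfl⟩ := (killedSub i F).presheaf.exists_germ_eq m
    obtain ⟨_, ⟨W, hW : IsAffineOpen W, rfl⟩, hzW, hle⟩ :=
      X.isBasis_affineOpens.exists_subset_of_mem_open (show i z ∈ V from hV) V.isOpen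
    have hle' : W ≤ V := hle
    haveI : IsClosedImmersion (i ∣_ W) := IsZariskiLocalAtTarget.restrict ‹_› W
    have hr' : r ∈ (RingHom.ker (i.app W).hom).map (X.presheaf.germ W (i z) hzW).hom := by
      rw [← H17.ker_stalkMap_eq_map i hW z hzW]; exact hr
    rw [← TopCat.Presheaf.germ_res_apply _ (homOfLE hle') (i z) hzW v]
    clear hr
    induction hr' using Submodule.span_induction with
    | mem b hb =>
      obtain ⟨a, ha, rfl⟩ := hb
      rw [← H06Mod.germ_smul]
      have h0 : a • (killedSub i F).presheaf.map (homOfLE hle').op v = 0 := by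
        refine killedι_injective i F W ?_
        rw [Scheme.Modules.Hom.app_smul, map_zero]
        refine v.2 ⟨W, hW⟩ hle' a ?_
        rw [Scheme.Hom.ker_apply]
        exact ha
      rw [h0, map_zero]
    | zero => exact zero_smul _ _
    | add b c _ _ hb hc => rw [add_smul, hb, hc, add_zero]
    | smul c b _ hb => rw [smul_eq_mul, mul_smul, hb, smul_zero]
  · obtain ⟨V, hV, v, rfl⟩ := (killedSub i F).presheaf.exists_germ_eq m
    let O : X.Opens := V ⊓ ⟨(Set.range i.base)ᶜ, i.isClosedEmbedding.isClosed_range.isOpen_compl⟩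
    obtain ⟨_, ⟨W, hW : IsAffineOpen W, rfl⟩, hyW, hle'⟩ :=
      X.isBasis_affineOpens.exists_subset_of_mem_open (show y ∈ O from ⟨hV, hy⟩) O.isOpen
    have hle : W ≤ V := fun w hw => (hle' hw).1
    haveI : Subsingleton Γ(Z, i ⁻¹ᵁ W) := by
      rw [show i ⁻¹ᵁ W = ⊥ from Opens.ext (Set.eq_empty_iff_forall_notMem.2 fun z hz => (hle' hz).2 ⟨z, rfl⟩)]
      infer_instance
    have h1 : (1 : Γ(X, W)) ∈ i.ker.ideal ⟨W, hW⟩ := by
      rw [Scheme.Hom.ker_apply, RingHom.mem_ker]; exact Subsingleton.elim _ _
    rw [← TopCat.Presheaf.germ_res_apply _ (homOfLE hle) y hyW v]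
    have h0 : (killedSub i F).presheaf.map (homOfLE hle).op v = 0 := by
      refine killedι_injective i F W ?_
      rw [map_zero]
      exact (one_smul Γ(X, W) _).symm.trans (v.2 ⟨W, hW⟩ hle 1 h1)
    rw [h0, map_zero]

theorem isKilled_of_affine {U : X.affineOpens} (s : Γ(F, U.1)) (h : ∀ a ∈ i.ker.ideal U, a • s = 0) :
    IsKilled i F s := fun W hW a ha => by
  have hm : a ∈ (i.ker.ideal U).map (X.presheaf.map (homOfLE hW).op).hom := by
    rw [show (i.ker.ideal U).map (X.presheaf.map (homOfLE hW).op).hom = i.ker.ideal W from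
      i.ker.map_ideal' (U := W) (V := U) _]
    exact ha
  clear ha
  induction hm using Submodule.span_induction with
  | mem b hb =>
    obtain ⟨c, hc, rfl⟩ := hb
    exact (Scheme.Modules.map_smul F (homOfLE hW) c s).symm.trans ((congrArg _ (h c hc)).trans (map_zero _))
  | zero => exact zero_smul _ _
  | add b c _ _ hb hc => rw [add_smul, hb, hc, add_zero]
  | smul c b _ hb => rw [smul_eq_mul, mul_smul, hb, smul_zero]

variable [IsClosedImmersion i] [Dual3.HasHomO i]

theorem mono_counit : Mono ((Dual3.homOAdj i).counit.app F) := by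
  let ε := (Dual3.homOAdj i).counit.app F
  let η := (Scheme.Modules.pullbackPushforwardAdjunction i).unit
  let κ := (Scheme.Modules.pullbackPushforwardAdjunction i).counit
  let H := (Dual3.homO i).obj F
  haveI : IsIso (κ.app H) := H16Derived.ProjFormula.isIso_counit_of_isClosedImmersion i H
  have hK : H16Derived.ProjFormula.Killed i (kernel ε) := by
    have hH := H16Derived.ProjFormula.killed_push i H
    have hinj : ∀ y, Function.Injective
        ((TopCat.Presheaf.stalkFunctor Ab.{u} y).map (kernel.ι ε).mapPresheaf) :=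
      fun y => TopCat.Presheaf.stalkFunctor_map_injective_of_app_injective (f := (kernel.ι ε).mapPresheaf)
        (fun V => Groth.Agent.H10Coh.injective_app_of_mono' (kernel.ι ε) V) y
    refine ⟨fun z r hr m => hinj _ ?_, fun y hy => ?_⟩
    · rw [H06Mod.stalkMap_smul]
      exact (hH.smul_eq_zero z r hr _).trans (map_zero _).symm
    · exact ⟨fun a b => hinj y (@Subsingleton.elim _ (hH.subsingleton y hy) _ _)⟩
  haveI : IsIso (η.app (kernel ε)) := H16Derived.ProjFormula.isIso_unit_of_killed i hK
  let ψ : (Scheme.Modules.pullback i).obj (kernel ε) ⟶ H :=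
    ((Scheme.Modules.pullbackPushforwardAdjunction i).homEquiv _ _).symm (kernel.ι ε)
  have h1 : η.app (kernel ε) ≫ (Scheme.Modules.pushforward i).map ψ = kernel.ι ε :=
    ((Scheme.Modules.pullbackPushforwardAdjunction i).homEquiv_unit _ _ _).symm.trans (Equiv.apply_symm_apply _ _)
  have h2 : (Scheme.Modules.pushforward i).map ψ ≫ ε = 0 := by
    rw [← cancel_epi (η.app (kernel ε)), ← Category.assoc, h1, kernel.condition, comp_zero]
  have h3 : ψ = 0 := by
    apply ((Dual3.homOAdj i).homEquiv _ _).symm.injective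
    rw [Adjunction.homEquiv_counit, Adjunction.homEquiv_counit, Functor.map_zero, zero_comp]
    exact h2
  refine Preadditive.mono_of_kernel_zero ?_
  rw [← h1, h3, Functor.map_zero, comp_zero]

/-- The killed sections are those of `i_* i^! F`. -/
theorem exists_factor : ∃ g : killedSub i F ⟶ (Scheme.Modules.pushforward i).obj ((Dual3.homO i).obj F),
    g ≫ (Dual3.homOAdj i).counit.app F = killedι i F := by
  let η := (Scheme.Modules.pullbackPushforwardAdjunction i).unit.app (killedSub i F)
  haveI : IsIso η := H16Derived.ProjFormula.isIso_unit_of_killed i (killed_killedSub i F)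
  let χ := (Dual3.homOAdj i).homEquiv _ _ (inv η ≫ killedι i F)
  refine ⟨η ≫ (Scheme.Modules.pushforward i).map χ, ?_⟩
  refine (Category.assoc _ _ _).trans ((congrArg (η ≫ ·) (((Dual3.homOAdj i).homEquiv_counit _ _ _).symm.trans
    (Equiv.symm_apply_apply _ _))).trans ?_)
  exact IsIso.hom_inv_id_assoc η _

end Groth.Agent.H25HomO
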